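import Cfsg.Agent.H0.EJ3Z.D
set_option maxRecDepth 100000
set_option Elab.async false
set_option linter.unusedSectionVars false
namespace H0.EJ3Z
open H0 BN 
theorem defs_ok : DefsOK R.p defs 9 := (defsOK_cons (eq_of_eqW R c72) (by decide) (defsOK_cons (eq_of_eqW R c71) (by decide) (defsOK_cons (eq_of_eqW R c70) (by decide) (defsOK_cons (eq_of_eqW R c69) (by decide) (defsOK_cons (eq_of_eqW R c68) (by decide) (defsOK_cons (eq_of_eqW R c67) (by decide) (defsOK_cons (eq_of_eqW R c66) (by decide) (defsOK_cons (eq_of_eqW R c65) (by decide) (defsOK_cons (eq_of_eqW R c64) (by decide) (defsOK_cons (eq_of_eqW R c63) (by decide) (defsOK_cons (eq_of_eqW R c62) (by decide) (defsOK_cons (eq_of_eqW R c61) (by decide) (defsOK_cons (eq_of_eqW R c60) (by decide) (defsOK_cons (eq_of_eqW R c59) (by decide) (defsOK_cons (eq_of_eqW R c58) (by decide) (defsOK_cons (eq_of_eqW R c57) (by decide) (defsOK_cons (eq_of_eqW R c56) (by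 decide) (defsOK_cons (eq_of_eqW R c55) (by decide) (defsOK_cons (eq_of_eqW R c54) (by decide) (defsOK_cons (eq_of_eqW R c53) (by decide) (defsOK_cons (eq_of_eqW R c52) (by decide) (defsOK_cons (eq_of_eqW R c51) (by decide) (defsOK_cons (eq_of_eqW R c50) (by decide) (defsOK_cons (eq_of_eqW R c49) (by decide) (defsOK_cons (eq_of_eqW R c48) (by decide) (defsOK_nil _ _))))))))))))))))))))))))))
universe u
variable {G : Type u} [Group G] [Finite G] (m0 : Model G) (h0 : m0.R = H0.MJ3.R)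
noncomputable def m : Model G := m0.ext (lg := nat_lit 13) (N := nat_lit 8192) (l := H0.MJ3.nl) h0 nl nl_ok 9 rfl defs defs_ok (by decide +kernel)
theorem mR : (m m0 h0).R = R := rfl
variable (hb : m0.pst [2, 1, 0] = ⊥) (hc : Nat.card G = 50232960)
include h0 hb hc
theorem base : (m m0 h0).pst [2, 1, 0] = ⊥ := hb
omit hb hc in
theorem geq {x : ℕ} (h : x < 9) : (m m0 h0).g x = m0.g x := m0.ext_g h0 _ _ _ _ _ _ _ h
omit hb hc in
theorem sch_ok : (m m0 h0).ChainOK sch [] := ((m m0 h0).chain_cons [0, 1, 2, 3, 4, 5] (Model.via _ (mR m0 h0) (fun R => Model.fixP R [] [[9], [10], [11], [13], [14], [15]]) c2) (Model.via _ (mR m0 h0) (fun R => Model.growP R [[9], [10], [11], [13], [14], [15]] [0, 1, 2, 3, 4, 5] 0 64) c3) ((m m0 h0).chain_cons [0] (Model.via _ (mR m0 h0) (fun R => Model.fixP R [0] [[11, 12, 13]]) c0) (Model.via _ (mR m0 h0) (fun R => Model.growP R [[11, 12, 13]] [0] 1 2) c1) ((m m0 h0).chain_nil _)))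
theorem sE : ∀ e ∈ pcE 2 [9, 10, 11, 12, 13, 14, 15] sW, ev (m m0 h0).g e.1 = ev (m m0 h0).g e.2 := (all_take_done (all_take_step (all_take_zero _ (pcE 2 [9, 10, 11, 12, 13, 14, 15] sW)) ((m m0 h0).pairs_of (base m0 h0 hb hc) (Model.via _ (mR m0 h0) (fun R => pairsB R [2, 1, 0] (((pcE 2 [9, 10, 11, 12, 13, 14, 15] sW).drop 0).take 28)) c4))) (by decide +kernel))
omit hb hc in
theorem slow : 2 ^ [9, 10, 11, 12, 13, 14, 15].length ≤ Nat.card (gl (m m0 h0).g [9, 10, 11, 12, 13, 14, 15]) :=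
  (by decide +kernel : _ ≤ Model.cprod sch).trans ((m m0 h0).chain_card (sch_ok m0 h0) (gen_le fun w hw => mem_gl _ (List.all_eq_true.1 (by decide +kernel : (Model.cgens sch).all (·.all [9, 10, 11, 12, 13, 14, 15].contains) = true) w hw)))
theorem scls : ∀ x : G, x ^ 2 ^ 1 = 1 → x ≠ 1 → ∃ r ∈ sRs, IsConj (ev (m m0 h0).g r) x :=
  cls (by decide) (sE m0 h0 hb hc) (slow m0 h0) hc ((m m0 h0).need_of (Model.via _ (mR m0 h0) (fun R => needB R [0, 1, 2] 2 (2 ^ 1) [9, 10, 11, 12, 13, 14, 15] sWs []) c5)) (all_take_done (all_take_step (all_take_zero _ (clsE sWs sU sRs)) ((m m0 h0).pairs_of (base m0 h0 hb hc) (Model.via _ (mR m0 h0) (fun R => pairsB R [2, 1, 0] (((clsE sWs sU sRs).drop 0).take 36)) c6))) (by decide +kernel)) (by decide +kernel)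
theorem sone : ∀ x y : G, orderOf x = 2 → orderOf y = 2 → IsConj x y := fun _ _ =>
  one_cls (a := ev (m m0 h0).g [15]) (by decide) fun x a b => by simpa [sRs] using scls m0 h0 hb hc x a b
theorem K_iso : Nonempty (alternatingGroup (Fin (3 + 2)) ≃* gen (m m0 h0).g ((lets 3).map (sh 19))) :=
  alt_off _ 19 (all_take_done (all_take_step (all_take_zero _ (((altW 3).map (sh 19)).map fun r => (r, ([] : List ℕ)))) ((m m0 h0).pairs_of (base m0 h0 hb hc) (Model.via _ (mR m0 h0) (fun R => pairsB R [2, 1, 0] (((((altW 3).map (sh 19)).map fun r => (r, ([] : List ℕ))).drop 0).take 6)) c7))) (by decide +kernel)) (by decide) ((m m0 h0).ne_of_neB (Model.via _ (mR m0 h0) (fun R => neB R [19] [] 0 2344 0) c8))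
omit hb hc in
theorem qch_ok : (m m0 h0).ChainOK qch [] := ((m m0 h0).chain_cons [0, 1, 2, 3, 4] (Model.via _ (mR m0 h0) (fun R => Model.fixP R [] [[22], [23], [24], [25], [26]]) c9) (Model.via _ (mR m0 h0) (fun R => Model.growP R [[22], [23], [24], [25], [26]] [0, 1, 2, 3, 4] 0 32) c10) ((m m0 h0).chain_nil _))
theorem qE : ∀ e ∈ pcE 2 [22, 23, 24, 25, 26] qW, ev (m m0 h0).g e.1 = ev (m m0 h0).g e.2 := (all_take_done (all_take_step (all_take_zero _ (pcE 2 [22, 23, 24, 25, 26] qW)) ((m m0 h0).pairs_of (base m0 h0 hb hc) (Model.via _ (mR m0 h0) (fun R => pairsB R [2, 1, 0] (((pcE 2 [22, 23, 24, 25, 26] qW).drop 0).take 15)) c11))) (by decide +kernel))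
omit hb hc in
theorem qlow : 2 ^ [22, 23, 24, 25, 26].length ≤ Nat.card (gl (m m0 h0).g [22, 23, 24, 25, 26]) :=
  (by decide +kernel : _ ≤ Model.cprod qch).trans ((m m0 h0).chain_card (qch_ok m0 h0) (gen_le fun w hw => mem_gl _ (List.all_eq_true.1 (by decide +kernel : (Model.cgens qch).all (·.all [22, 23, 24, 25, 26].contains) = true) w hw)))
omit hb hc in
theorem zch_ok : (m m0 h0).ChainOK zch [] := ((m m0 h0).chain_cons [0, 1, 0, 1, 0, 1, 0, 1, 0, 1, 0, 1, 0, 1, 0, 1, 0, 1, 0, 1, 0, 0] (Model.via _ (mR m0 h0) (fun R => Model.fixP R [] [[27], [28]]) c18) (Model.via _ (mR m0 h0) (fun R => Model.growP R [[27], [28]] [0, 1, 0, 1, 0, 1, 0, 1, 0, 1, 0, 1, 0, 1, 0, 1, 0, 1, 0, 1, 0, 0] 1558 6156) c19) ((m m0 h0).chain_cons [0, 1, 0, 1, 0, 1, 0, 1, 0, 1, 0, 1, 0, 1, 0, 1, 0, 1] (Model.via _ (mR m0 h0) (fun R => Model.fixP R [1558] [[29], [30]]) c16) (Model.via _ (mR m0 h0) (fun R => Model.growP R [[29], [30]]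 [0, 1, 0, 1, 0, 1, 0, 1, 0, 1, 0, 1, 0, 1, 0, 1, 0, 1] 5425 1360) c17) ((m m0 h0).chain_cons [0, 1] (Model.via _ (mR m0 h0) (fun R => Model.fixP R [5425, 1558] [[31], [32]]) c14) (Model.via _ (mR m0 h0) (fun R => Model.growP R [[31], [32]] [0, 1] 2218 3) c15) ((m m0 h0).chain_cons [0] (Model.via _ (mR m0 h0) (fun R => Model.fixP R [2218, 5425, 1558] [[33]]) c12) (Model.via _ (mR m0 h0) (fun R => Model.growP R [[33]] [0] 371 2) c13) ((m m0 h0).chain_nil _)))))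
theorem ztop : gen (m m0 h0).g (Model.cgens zch) = ⊤ := (m m0 h0).chain_top (zch_ok m0 h0) (hc.trans (by decide +kernel))
theorem zbdd : (m m0 h0).Bdd := (m m0 h0).bdd_of_top (ztop m0 h0 hb hc)
theorem zot : (m m0 h0).OTOK zOT := ((m m0 h0).otok_cons (zch_ok m0 h0) (hc.trans (by decide +kernel)) 3 rfl (Model.via _ (mR m0 h0) (fun R => Model.invB R (Model.cgens (zch.drop 3)) zO0) c40) ((m m0 h0).otok_cons (zch_ok m0 h0) (hc.trans (by decide +kernel)) 2 rfl (Model.via _ (mR m0 h0) (fun R => Model.invB R (Model.cgens (zch.drop 2)) zO1) c39) ((m m0 h0).otok_cons (zch_ok m0 h0) (hc.trans (by decide +kernel)) 1 rfl (Model.via _ (mR m0 h0) (fun R => Model.invB R (Model.cgens (zch.drop 1)) zO2) c38) ((m m0 h0).otok_cons (zch_ok m0 h0) (hc.trans (by decide +kernel)) 0 rfl (Model.via _ (mR m0 h0) (fun R => Model.invB R (Model.cgens (zch.drop 0)) zO3) c37) (m m0 h0).otok_nil))))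
theorem zcm : ∀ w ∈ zCg, (m m0 h0).Cm [[26]] (ev (m m0 h0).g w) := (m m0 h0).cm_of_pairs (all_take_done (all_take_step (all_take_zero _ (zCg.flatMap fun w => [[26]].map fun y => (w ++ y, y ++ w))) ((m m0 h0).pairs_of (base m0 h0 hb hc) (Model.via _ (mR m0 h0) (fun R => pairsB R [2, 1, 0] (((zCg.flatMap fun w => [[26]].map fun y => (w ++ y, y ++ w)).drop 0).take 12)) c41))) (by decide +kernel))
theorem zn4 : (m m0 h0).Sol [[26]] zCg [371, 2218, 5425, 1558] [371, 2218, 5425, 1558] := (m m0 h0).sol_done [0, 1, 2, 3] (((m m0 h0).chain_bot (zch_ok m0 h0) (hc.trans (by decide +kernel))).le.trans bot_le) (by decide +kernel)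
theorem zn3 : (m m0 h0).Sol [[26]] zCg [2218, 5425, 1558] [2218, 5425, 1558] := (m m0 h0).sol_free (zbdd m0 h0 hb hc) (zcm m0 h0 hb hc) (zot m0 h0 hb hc) ((m m0 h0).excl_zero _ _) (Model.via _ (mR m0 h0) (fun R => freeB R zOT [[26]] zCg [0, 1, 2] [2218, 5425, 1558] [2218, 5425, 1558] [] 371 0 [([], 371, 0)] [[8], [8]] [0] zc25) c25) ((m m0 h0).solL_cons ((m m0 h0).sol_cyc [] (Bc := [371]) (T := [371]) rfl (Model.via _ (mR m0 h0) (fun R => cycB R (subst [[26]] []) [371]) c23) (Model.via _ (mR m0 h0) (fun R => cycB R (subst [[26]] []) [371]) c24) (zn4 m0 h0 hb hc)) (m m0 h0).solL_nil)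
theorem zn2 : (m m0 h0).Sol [[26]] zCg [5425, 1558] [5425, 1558] := (m m0 h0).sol_free (zbdd m0 h0 hb hc) (zcm m0 h0 hb hc) (zot m0 h0 hb hc) ((m m0 h0).excl_mov (zbdd m0 h0 hb hc) [0] (Model.via _ (mR m0 h0) (fun R => exclB R (subst [[26]] [0]) 2218 zD2) c27)) (Model.via _ (mR m0 h0) (fun R => freeB R zOT [[26]] zCg [0, 1] [5425, 1558] [5425, 1558] [] 2218 zD2 [([], 2218, 1)] [[8], [8]] [] zc28) c28) ((m m0 h0).solL_cons ((m m0 h0).sol_cyc [] (Bc := [2218]) (T := [2218]) rfl (Model.via _ (mR m0 h0) (fun R => cycB R (subst [[26]] []) [2218]) c22) (Model.via _ (mR m0 h0) (fun R => cycB R (subst [[26]] []) [2218]) c26) (zn3 m0 h0 hb hc)) (m m0 h0).solL_nil)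
theorem zn1 : (m m0 h0).Sol [[26]] zCg [1558] [1558] := (m m0 h0).sol_free (zbdd m0 h0 hb hc) (zcm m0 h0 hb hc) (zot m0 h0 hb hc) ((m m0 h0).excl_mov (zbdd m0 h0 hb hc) [0] (Model.via _ (mR m0 h0) (fun R => exclB R (subst [[26]] [0]) 5425 zD1) c30)) (Model.via _ (mR m0 h0) (fun R => freeB R zOT [[26]] zCg [0] [1558] [1558] [] 5425 zD1 [([], 5425, 2)] [[4], [5], [6], [7]] [0, 1, 2, 3] zc31) c31) ((m m0 h0).solL_cons ((m m0 h0).sol_cyc [] (Bc := [5425]) (T := [5425]) rfl (Model.via _ (mR m0 h0) (fun R => cycB R (subst [[26]] []) [5425]) c21) (Model.via _ (mR m0 h0) (fun R => cycB R (subst [[26]] []) [5425]) c29) (zn2 m0 h0 hb hc)) (m m0 h0).solL_nil)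
theorem zn5 : (m m0 h0).Sol [[26]] zCg [1558] [410] := (m m0 h0).sol_free (zbdd m0 h0 hb hc) (zcm m0 h0 hb hc) (zot m0 h0 hb hc) ((m m0 h0).excl_mov (zbdd m0 h0 hb hc) [0] (Model.via _ (mR m0 h0) (fun R => exclB R (subst [[26]] [0]) 5425 zD1) c30)) (Model.via _ (mR m0 h0) (fun R => freeB R zOT [[26]] zCg [0] [1558] [410] [28, 27, 28, 28, 28, 27, 27, 27, 27, 27, 27, 28, 27] 5425 zD1 [([], 5425, 2)] [[9], [10], [11]] [] zc33) c33) (m m0 h0).solL_nil
theorem zn0 : (m m0 h0).Sol [[26]] zCg [] [] := (m m0 h0).sol_free (zbdd m0 h0 hb hc) (zcm m0 h0 hb hc) (zot m0 h0 hb hc) ((m m0 h0).excl_mov (zbdd m0 h0 hb hc) [0] (Model.via _ (mR m0 h0) (fun R => exclB R (subst [[26]] [0]) 1558 zD0) c35)) (Model.via _ (mR m0 h0) (fun R => freeB R zOT [[26]] zCg [] [] [] [] 1558 zD0 [([], 1558, 3)] [[2], [3]] [0, 1, 0, 1, 0, 1, 0, 0, 1, 1] zc36) c36) ((m m0 h0).solL_cons ((m m0 h0).sol_cyc [] (Bc := [1558]) (T := [410]) rfl (Model.via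 _ (mR m0 h0) (fun R => cycB R (subst [[26]] []) [1558]) c20) (Model.via _ (mR m0 h0) (fun R => cycB R (subst [[26]] []) [410]) c34) (zn5 m0 h0 hb hc)) ((m m0 h0).solL_cons ((m m0 h0).sol_cyc [] (Bc := [1558]) (T := [1558]) rfl (Model.via _ (mR m0 h0) (fun R => cycB R (subst [[26]] []) [1558]) c20) (Model.via _ (mR m0 h0) (fun R => cycB R (subst [[26]] []) [1558]) c32) (zn1 m0 h0 hb hc)) (m m0 h0).solL_nil))
theorem zsol : (m m0 h0).Sol [[26]] zCg [] [] := zn0 m0 h0 hb hc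
theorem xs : XS2 (gl (m m0 h0).g ([22, 23, 24, 25] ++ [26])) ((m m0 h0).g 26) := (m m0 h0).xs2 (qE m0 h0 hb hc) (all_take_done (all_take_step (all_take_zero _ (xsE [22, 23, 24, 25] 26 qT)) ((m m0 h0).pairs_of (base m0 h0 hb hc) (Model.via _ (mR m0 h0) (fun R => pairsB R [2, 1, 0] (((xsE [22, 23, 24, 25] 26 qT).drop 0).take 21)) c42))) (by decide +kernel))
  (Model.via _ (mR m0 h0) (fun R => (pcOK ([22, 23, 24, 25] ++ [26]) qW && [22, 23, 24, 25].contains 22 && ne2 R 0 [26] [] && ne2 R 0 [22] [] && ne2 R 0 [22] [26])) c43) (Model.via _ (mR m0 h0) (fun R => ctrB R 0 [22, 23, 24, 25] 26 (nfW 2 ([22, 23, 24, 25] ++ [26]))) c44)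
theorem str : ∃ t : G, orderOf t = 2 ∧ ∃ Q K : Subgroup G, XS2 Q t ∧ Subgroup.centralizer {t} = Q ⊔ K ∧ K ≤ Subgroup.normalizer Q ∧ Nonempty (alternatingGroup (Fin (3 + 2)) ≃* K) ∧ Nat.card Q = 32 ∧ ∀ {P : Type u} [Group P] (f : P →* G), Function.Injective f → (∀ x, f x ∈ Q) → ∀ E : Subgroup P, Cfsg.IsElementaryAbelian 2 E → Nat.card E ≤ 2 ^ 2 :=
  ⟨_, (xs m0 h0 hb hc).oz, _, gl (m m0 h0).g [19, 20, 21], xs m0 h0 hb hc, cent_sup ((m m0 h0).cent_le (zsol m0 h0 hb hc)) (by decide +kernel) (all_take_done (all_take_step (all_take_zero _ (cmE 26 ((([22, 23, 24, 25] ++ [26]) ++ [19, 20, 21]).map fun x => [x]))) ((m m0 h0).pairs_of (base m0 h0 hb hc) (Model.via _ (mR m0 h0) (fun R => pairsB R [2, 1, 0] (((cmE 26 ((([22, 23, 24, 25] ++ [26]) ++ [19, 20, 21]).map fun x => [x])).drop 0).take 8)) c45))) (by decide +kernel)),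
    gl_nrm (T := qN) (all_take_done (all_take_step (all_take_zero _ (nrmE ([22, 23, 24, 25] ++ [26]) [19, 20, 21] qN)) ((m m0 h0).pairs_of (base m0 h0 hb hc) (Model.via _ (mR m0 h0) (fun R => pairsB R [2, 1, 0] (((nrmE ([22, 23, 24, 25] ++ [26]) [19, 20, 21] qN).drop 0).take 15)) c46))) (by decide +kernel)) (by decide +kernel), gl_sh (m m0 h0).g (off := 19) (k := 3) (ks := [19, 20, 21]) (by decide +kernel) ▸ K_iso m0 h0 hb hc,
    pcn_card two_pos (qE m0 h0 hb hc) (by decide +kernel) (qlow m0 h0), fun f a b => (m m0 h0).minus (xs m0 h0 hb hc).oz (qE m0 h0 hb hc) (Model.via _ (mR m0 h0) (fun R => (pcOK ([22, 23, 24, 25] ++ [26]) qW && minB R 0 26 (nfW 2 ([22, 23, 24, 25] ++ [26])))) c47) f a b⟩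
end H0.EJ3Z
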